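import Mathlib
import Groth.Prelude.Def_GrLC

set_option autoImplicit false
universe u
open scoped BigOperators
open DirectSum

namespace Groth.Agent.Lib.Helper5.GrLA

variable {R : Type u} [CommRing R] (𝒜 : ℤ → AddSubgroup R) [GradedRing 𝒜]
variable {M : Type u} [AddCommGroup M] [Module R M] (ℳ : ℤ → AddSubgroup M)
    [DirectSum.Decomposition ℳ] [SetLike.GradedSMul 𝒜 ℳ]

theorem smul_mem {i j : ℤ} {a : R} {m : M} (ha : a ∈ 𝒜 i) (hm : m ∈ ℳ j) : a • m ∈ ℳ (i + j) := by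
  have := SetLike.GradedSMul.smul_mem (A := 𝒜) (B := ℳ) ha hm
  rwa [vadd_eq_add] at this

/-- component of `c • x` for homogeneous `x`. -/
theorem decompose_smul_of_mem {r : ℤ} {x : M} (hx : x ∈ ℳ r) (c : R) (N : ℤ) :
    (decompose ℳ (c • x) N : M) = (decompose 𝒜 c (N - r) : R) • x := by
  classical
  have hc : c = ∑ n ∈ (decompose 𝒜 c).support, (decompose 𝒜 c n : R) :=
    (DirectSum.sum_support_decompose 𝒜 c).symm
  conv_lhs => rw [hc, Finset.sum_smul, decompose_sum, DFinsupp.finsetSum_apply,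
    AddSubmonoidClass.coe_finsetSum]
  have key : ∀ n : ℤ, (decompose ℳ ((decompose 𝒜 c n : R) • x) N : M) =
      if n = N - r then (decompose 𝒜 c n : R) • x else 0 := by
    intro n
    have hmem : (decompose 𝒜 c n : R) • x ∈ ℳ (n + r) := smul_mem 𝒜 ℳ (decompose 𝒜 c n).2 hx
    split_ifs with h
    · have : n + r = N := by omega
      rw [← this]
      exact DirectSum.decompose_of_mem_same ℳ hmem
    · have : n + r ≠ N := by omega
      exact DirectSum.decompose_of_mem_ne ℳ hmem this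
  simp only [key]
  rw [Finset.sum_ite_eq']
  split_ifs with h
  · rfl
  · rw [DFinsupp.mem_support_toFun, not_not] at h
    rw [h]
    simp

variable {𝒜}

theorem inv_mem (d : ℤ) (T : Rˣ) (hT : (T : R) ∈ 𝒜 d) : ((T⁻¹ : Rˣ) : R) ∈ 𝒜 (-d) := by
  have h1 : ((decompose 𝒜 ((T : R) * ((T⁻¹ : Rˣ) : R)) (d + (-d)) : 𝒜 (d + -d)) : R) =
      (T : R) * (decompose 𝒜 ((T⁻¹ : Rˣ) : R) (-d) : R) :=
    DirectSum.coe_decompose_mul_add_of_left_mem 𝒜 hT
  have h2 : (T : R) * ((T⁻¹ : Rˣ) : R) = 1 := by simp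
  have h3 : ((decompose 𝒜 (1 : R) (d + (-d)) : 𝒜 (d + -d)) : R) = 1 := by
    have h0 : d + -d = 0 := by omega
    rw [h0]
    exact DirectSum.decompose_of_mem_same 𝒜 (SetLike.GradedOne.one_mem)
  rw [h2, h3] at h1
  have h4 : ((T⁻¹ : Rˣ) : R) = (decompose 𝒜 ((T⁻¹ : Rˣ) : R) (-d) : R) := by
    calc ((T⁻¹ : Rˣ) : R) = ((T⁻¹ : Rˣ) : R) * 1 := by rw [mul_one]
      _ = ((T⁻¹ : Rˣ) : R) * ((T : R) * (decompose 𝒜 ((T⁻¹ : Rˣ) : R) (-d) : R)) := by rw [← h1]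
      _ = _ := by rw [← mul_assoc]; simp
  rw [h4]
  exact (decompose 𝒜 ((T⁻¹ : Rˣ) : R) (-d)).2

theorem zpow_mem (d : ℤ) (T : Rˣ) (hT : (T : R) ∈ 𝒜 d) (j : ℤ) : ((T ^ j : Rˣ) : R) ∈ 𝒜 (j * d) := by
  obtain ⟨n, rfl | rfl⟩ := Int.eq_nat_or_neg j
  · rw [zpow_natCast, Units.val_pow_eq_pow_val]
    have := SetLike.pow_mem_graded (A := 𝒜) n hT
    simpa [smul_eq_mul] using this
  · rw [zpow_neg, zpow_natCast, ← inv_pow, Units.val_pow_eq_pow_val]
    have := SetLike.pow_mem_graded (A := 𝒜) n (inv_mem d T hT)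
    simpa [smul_eq_mul] using this

end Groth.Agent.Lib.Helper5.GrLA
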