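import Mathlib
import Groth.Agent.Lib.Helper5.GrL.A

set_option autoImplicit false
universe u
open scoped BigOperators
open DirectSum

namespace Groth.Agent.Lib.Helper5.GrLB
open Groth.Agent.Lib.Helper5.GrLA

variable {R : Type u} [CommRing R] (𝒜 : ℤ → AddSubgroup R) [GradedRing 𝒜]
variable {M : Type u} [AddCommGroup M] [Module R M] (ℳ : ℤ → AddSubgroup M)
    [DirectSum.Decomposition ℳ] [SetLike.GradedSMul 𝒜 ℳ]

theorem mem_of_eq {a b : ℤ} {m : M} (h : m ∈ ℳ a) (hab : a = b) : m ∈ ℳ b := hab ▸ h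

section
variable (h0 : IsField (GrLC.deg0 𝒜))

/-- the index type -/
def Idx (d : ℤ) : Type u :=
  letI := h0.toField
  Σ r : Fin d.toNat, ↥(Module.Basis.ofVectorSpaceIndex (GrLC.deg0 𝒜) (GrLC.comp 𝒜 ℳ (r : ℤ)))

/-- the family of vectors -/
def vec (d : ℤ) (x : Idx 𝒜 ℳ h0 d) : M :=
  letI := h0.toField
  ((x.2 : GrLC.comp 𝒜 ℳ ((x.1 : ℕ) : ℤ)) : M)

theorem vec_mem (d : ℤ) (x : Idx 𝒜 ℳ h0 d) : vec 𝒜 ℳ h0 d x ∈ ℳ ((x.1 : ℕ) : ℤ) := by
  letI := h0.toField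
  exact (x.2 : GrLC.comp 𝒜 ℳ ((x.1 : ℕ) : ℤ)).2

theorem comp_le_span (d : ℤ) (r : Fin d.toNat) (y : GrLC.comp 𝒜 ℳ ((r : ℕ) : ℤ)) :
    (y : M) ∈ Submodule.span R (Set.range (vec 𝒜 ℳ h0 d)) := by
  letI := h0.toField
  have hy : y ∈ Submodule.span (GrLC.deg0 𝒜)
      (Set.range (Module.Basis.ofVectorSpace (GrLC.deg0 𝒜) (GrLC.comp 𝒜 ℳ ((r : ℕ) : ℤ)))) :=
    Module.Basis.mem_span _ y
  induction hy using Submodule.span_induction with
  | mem y hy =>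
    obtain ⟨i, rfl⟩ := hy
    apply Submodule.subset_span
    refine ⟨⟨r, i⟩, ?_⟩
    rw [Module.Basis.ofVectorSpace_apply_self]
    rfl
  | zero => simp
  | add y z _ _ hy hz => 
    rw [Submodule.coe_add]
    exact Submodule.add_mem _ hy hz
  | smul a y _ hy =>
    rw [Submodule.coe_smul]
    exact Submodule.smul_mem _ (a : R) hy

theorem span_eq_top (d : ℤ) (hd : 0 < d) (T : Rˣ) (hT : (T : R) ∈ 𝒜 d) :
    ⊤ ≤ Submodule.span R (Set.range (vec 𝒜 ℳ h0 d)) := by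
  classical
  intro m _
  rw [← DirectSum.sum_support_decompose ℳ m]
  refine Submodule.sum_mem _ fun n _ => ?_
  set x : M := (decompose ℳ m n : M) with hx
  have hxmem : x ∈ ℳ n := (decompose ℳ m n).2
  -- write n = q d + r
  set q := n / d with hq
  set r := n % d with hr
  have hr0 : 0 ≤ r := Int.emod_nonneg _ hd.ne'
  have hrd : r < d := Int.emod_lt_of_pos _ hd
  have hnq : n = q * d + r := by rw [hq, hr]; exact (Int.ediv_mul_add_emod n d).symm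
  let r' : Fin d.toNat := ⟨r.toNat, by omega⟩
  have hr' : ((r' : ℕ) : ℤ) = r := by simp [r', hr0]
  have h1 : ((T ^ (-q) : Rˣ) : R) • x ∈ ℳ (((r' : ℕ) : ℤ)) := by
    refine mem_of_eq ℳ (smul_mem 𝒜 ℳ (zpow_mem d T hT (-q)) hxmem) ?_
    rw [hr']; rw [hnq]; ring
  have h2 := comp_le_span 𝒜 ℳ h0 d r' ⟨_, h1⟩
  have h3 : x = ((T ^ q : Rˣ) : R) • (((T ^ (-q) : Rˣ) : R) • x) := by
    rw [smul_smul, ← Units.val_mul, ← zpow_add]
    simp
  rw [h3]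
  exact Submodule.smul_mem _ _ h2

end

end Groth.Agent.Lib.Helper5.GrLB
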