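import Mathlib
import Groth.Agent.Lib.Helper5.GrL.B

set_option autoImplicit false
universe u
open scoped BigOperators
open DirectSum

namespace Groth.Agent.Lib.Helper5.GrLB
open Groth.Agent.Lib.Helper5.GrLA

variable {R : Type u} [CommRing R] (𝒜 : ℤ → AddSubgroup R) [GradedRing 𝒜]
variable {M : Type u} [AddCommGroup M] [Module R M] (ℳ : ℤ → AddSubgroup M)
    [DirectSum.Decomposition ℳ] [SetLike.GradedSMul 𝒜 ℳ]
variable (h0 : IsField (GrLC.deg0 𝒜))

theorem linInd (d : ℤ) (hd : 0 < d) (T : Rˣ) (hT : (T : R) ∈ 𝒜 d)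
    (hA : ∀ (n : ℤ) (x : R), x ∈ 𝒜 n → x ≠ 0 →
      ∃ j : ℤ, ∃ a ∈ 𝒜 0, j * d = n ∧ x = a * ((T ^ j : Rˣ) : R)) :
    LinearIndependent R (vec 𝒜 ℳ h0 d) := by
  classical
  letI := h0.toField
  rw [linearIndependent_iff']
  intro s g hsum x₀ hx₀
  -- suffices all components vanish
  have hcomp : ∀ n : ℤ, (decompose 𝒜 (g x₀) n : R) = 0 := by
    intro n
    by_contra hne
    set r₀ : ℤ := ((x₀.1 : ℕ) : ℤ) with hr₀
    set N := n + r₀ with hN
    -- the components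
    set c : Idx 𝒜 ℳ h0 d → R := fun x => (decompose 𝒜 (g x) (N - ((x.1 : ℕ) : ℤ)) : R) with hc
    have hcmem : ∀ x, c x ∈ 𝒜 (N - ((x.1 : ℕ) : ℤ)) := fun x => (decompose 𝒜 (g x) _).2
    have hcx₀ : c x₀ = (decompose 𝒜 (g x₀) n : R) := by
      have : N - r₀ = n := by omega
      simp only [hc]
      rw [← hr₀, this]
    have hsumc : ∑ x ∈ s, c x • vec 𝒜 ℳ h0 d x = 0 := by
      have h1 : (decompose ℳ (∑ x ∈ s, g x • vec 𝒜 ℳ h0 d x) N : M) = 0 := by
        rw [hsum, decompose_zero]; rfl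
      rw [decompose_sum, DFinsupp.finsetSum_apply, AddSubmonoidClass.coe_finsetSum] at h1
      rw [← h1]
      refine Finset.sum_congr rfl fun x _ => ?_
      rw [decompose_smul_of_mem 𝒜 ℳ (vec_mem 𝒜 ℳ h0 d x)]
    -- n = j₀ d
    obtain ⟨j₀, a₀, ha₀, hj₀, hca₀⟩ := hA n _ (decompose 𝒜 (g x₀) n).2 hne
    -- vanishing for other residues
    have hother : ∀ x : Idx 𝒜 ℳ h0 d, x.1 ≠ x₀.1 → c x = 0 := by
      intro x hx
      by_contra hcne
      obtain ⟨j, a, _, hj, _⟩ := hA _ _ (hcmem x) hcne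
      have h1 : ((x.1 : ℕ) : ℤ) < d := by have := x.1.2; omega
      have h2 : ((x₀.1 : ℕ) : ℤ) < d := by have := x₀.1.2; omega
      have h3 : (j₀ - j) * d = ((x.1 : ℕ) : ℤ) - r₀ := by rw [sub_mul, hj₀, hj]; omega
      have h4 : ((x.1 : ℕ) : ℤ) ≠ r₀ := by
        intro h
        apply hx
        apply Fin.ext
        have h' : ((x.1 : ℕ) : ℤ) = ((x₀.1 : ℕ) : ℤ) := h
        exact_mod_cast h'
      have h5 : j₀ - j ≠ 0 := by
        intro h; rw [h, zero_mul] at h3; omega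
      rcases lt_or_gt_of_ne h5 with h6 | h6
      · have : (j₀ - j) * d ≤ -1 * d := Int.mul_le_mul_of_nonneg_right (by omega) hd.le
        omega
      · have : 1 * d ≤ (j₀ - j) * d := Int.mul_le_mul_of_nonneg_right (by omega) hd.le
        omega
    -- coefficients
    have hcoef : ∀ x : Idx 𝒜 ℳ h0 d, ∃ a : GrLC.deg0 𝒜, c x = (a : R) * ((T ^ j₀ : Rˣ) : R) ∧
        (x.1 ≠ x₀.1 → a = 0) := by
      intro x
      by_cases hx : x.1 = x₀.1
      · by_cases hcz : c x = 0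
        · exact ⟨0, by simp [hcz], fun _ => rfl⟩
        · obtain ⟨j, a, ha, hj, hca⟩ := hA _ _ (hcmem x) hcz
          have : j = j₀ := by
            have h1 : j * d = j₀ * d := by rw [hj, hj₀, hx]; omega
            exact Int.eq_of_mul_eq_mul_right hd.ne' h1
          subst this
          exact ⟨⟨a, ha⟩, hca, fun h => absurd hx h⟩
      · exact ⟨0, by simp [hother x hx], fun _ => rfl⟩
    choose a ha1 ha2 using hcoef
    -- the k-linear relation
    have hrel : ∑ x ∈ s, ((a x : GrLC.deg0 𝒜) : R) • vec 𝒜 ℳ h0 d x = 0 := by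
      have h1 : ((T ^ j₀ : Rˣ) : R) • ∑ x ∈ s, ((a x : GrLC.deg0 𝒜) : R) • vec 𝒜 ℳ h0 d x = 0 := by
        rw [Finset.smul_sum, ← hsumc]
        refine Finset.sum_congr rfl fun x _ => ?_
        rw [smul_smul, ha1 x, mul_comm]
      have h2 := congrArg (fun m => ((T ^ (-j₀) : Rˣ) : R) • m) h1
      simp only [smul_zero, smul_smul, ← Units.val_mul, ← zpow_add] at h2
      simpa using h2
    -- transfer to the basis of the r₀ component
    set ι₀ := ↥(Module.Basis.ofVectorSpaceIndex (GrLC.deg0 𝒜) (GrLC.comp 𝒜 ℳ ((x₀.1 : ℕ) : ℤ)))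
    let emb : ι₀ → Idx 𝒜 ℳ h0 d := fun i => ⟨x₀.1, i⟩
    have hemb : Function.Injective emb := by
      intro i j hij
      cases hij
      rfl
    let s' : Finset ι₀ := s.preimage emb hemb.injOn
    have hrel' : ∑ i ∈ s', ((a (emb i) : GrLC.deg0 𝒜) : R) • vec 𝒜 ℳ h0 d (emb i) = 0 := by
      rw [← hrel]
      refine Finset.sum_preimage emb s hemb.injOn
        (fun x => ((a x : GrLC.deg0 𝒜) : R) • vec 𝒜 ℳ h0 d x) ?_
      intro x _ hx
      have : x.1 ≠ x₀.1 := by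
        intro h
        apply hx
        obtain ⟨r, i⟩ := x
        simp only at h
        subst h
        exact ⟨i, rfl⟩
      rw [ha2 x this]
      simp
    have hli := (Module.Basis.ofVectorSpace (GrLC.deg0 𝒜)
      (GrLC.comp 𝒜 ℳ ((x₀.1 : ℕ) : ℤ))).linearIndependent
    rw [linearIndependent_iff'] at hli
    have hrel'' : ∑ i ∈ s', a (emb i) •
        (Module.Basis.ofVectorSpace (GrLC.deg0 𝒜) (GrLC.comp 𝒜 ℳ ((x₀.1 : ℕ) : ℤ)) i) = 0 := by
      apply Subtype.ext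
      rw [Submodule.coe_sum, Submodule.coe_zero, ← hrel']
      refine Finset.sum_congr rfl fun i _ => ?_
      rw [Module.Basis.ofVectorSpace_apply_self, Submodule.coe_smul]
      rfl
    have hx₀' : x₀.2 ∈ s' := by
      rw [Finset.mem_preimage]
      exact hx₀
    have ha0 := hli s' (fun i => a (emb i)) hrel'' x₀.2 hx₀'
    apply hne
    rw [← hcx₀, ha1 x₀]
    have : a x₀ = 0 := ha0
    rw [this]
    simp
  have : decompose 𝒜 (g x₀) = 0 := by
    ext n
    rw [hcomp n]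
    simp
  have h2 : decompose 𝒜 (g x₀) = decompose 𝒜 0 := by rw [this, decompose_zero]
  exact (decompose 𝒜).injective h2

include h0 in
theorem main (d : ℤ) (hd : 0 < d) (T : Rˣ) (hT : (T : R) ∈ 𝒜 d)
    (hA : ∀ (n : ℤ) (x : R), x ∈ 𝒜 n → x ≠ 0 →
      ∃ j : ℤ, ∃ a ∈ 𝒜 0, j * d = n ∧ x = a * ((T ^ j : Rˣ) : R)) :
    ∃ (κ : Type u) (b : Module.Basis κ R M), ∀ i : κ, SetLike.IsHomogeneousElem ℳ (b i) := by
  refine ⟨Idx 𝒜 ℳ h0 d, Module.Basis.mk (linInd 𝒜 ℳ h0 d hd T hT hA) (span_eq_top 𝒜 ℳ h0 d hd T hT), ?_⟩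
  intro i
  rw [Module.Basis.mk_apply]
  exact ⟨_, vec_mem 𝒜 ℳ h0 d i⟩

end Groth.Agent.Lib.Helper5.GrLB
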